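import Groth.Agent.DTenPro.Systems

/-!
# The comparison `P ⊗ A/I^{n+1} ⟶ K ⊗ A/I^{n+1}` for a flat resolution `P ⟶ K`
-/

set_option autoImplicit false
universe u
open CategoryTheory CategoryTheory.Limits MonoidalCategory Opposite
attribute [local instance] HasDerivedCategory.standard

namespace Groth.Agent.DTenPro

variable {A : Type u} [CommRing A]

theorem isIso_tenCMap_unit {P K : DRing.Cx A} (σ : P ⟶ K) [QuasiIso σ] :
    IsIso ((Functor.whiskerRight (tenCMap σ) DerivedCategory.Q).app (ModuleCat.of A A)) := by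
  have h : QuasiIso (σ ▷ (𝟙_ (DRing.Cx A))) := by
    rw [show σ ▷ (𝟙_ (DRing.Cx A)) = (ρ_ P).hom ≫ σ ≫ (ρ_ K).inv from by
      rw [← rightUnitor_naturality_assoc, Iso.hom_inv_id, Category.comp_id]]
    infer_instance
  exact (DerivedCategory.isIso_Q_map_iff_quasiIso _ _).2 h

theorem isProIso_adic [IsNoetherianRing A] {P K : DRing.Cx A} (σ : P ⟶ K) [QuasiIso σ]
    (hP : DRing.TermwiseFlat P) {a b : ℤ} (hK : DRing.VanishesOutside K a b)
    (hKf : ∀ i, Module.Finite A (K.X i)) (I : Ideal A) :
    DerCA.IsProIso (Functor.whiskerLeft (CohIII.adicSystem I (ModuleCat.of A A))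
      (Functor.whiskerRight (tenCMap σ) DerivedCategory.Q)) := by
  obtain ⟨l, c, hc⟩ := exists_proIso_adic I
  refine isProIso_of_comp_left (a := Functor.whiskerRight c (tenC P ⋙ DerivedCategory.Q))
    (isProIso_map hc _) ?_
  rw [show Functor.whiskerRight c (tenC P ⋙ DerivedCategory.Q) ≫
      Functor.whiskerLeft (CohIII.adicSystem I (ModuleCat.of A A))
        (Functor.whiskerRight (tenCMap σ) DerivedCategory.Q) =
      Functor.whiskerLeft (sys l) (Functor.whiskerRight (tenCMap σ) DerivedCategory.Q) ≫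
        Functor.whiskerRight c (tenC K ⋙ DerivedCategory.Q) from by
    ext x; exact (Functor.whiskerRight (tenCMap σ) DerivedCategory.Q).naturality (c.app x)]
  exact isProIso_comp (isProIso_sys σ hP hK hKf (isIso_tenCMap_unit σ) l) (isProIso_map hc _)

end Groth.Agent.DTenPro
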