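import Groth.Agent.DTenPro.PerfectCrit
import Groth.Agent.DTenCalc.StrictDual
import Groth.Agent.DTenCalc.SymMonoidal

/-!
# Perfect objects with trivial derived endomorphisms are invertible
-/

set_option autoImplicit false
universe u
open CategoryTheory CategoryTheory.Limits HomologicalComplex MonoidalCategory
open CochainComplex CochainComplex.HomComplex
attribute [local instance] HasDerivedCategory.standard

namespace Groth.Agent.DTenPro

open Groth.DTenCalc Groth.DAlg

variable {A : Type u} [CommRing A]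

/-- A cochain map out of a module placed in degree `0` is a quasi-isomorphism by elementwise checks. -/
theorem quasiIso_from_single {M : ModuleCat.{u} A} {L : DRing.Cx A}
    (φ : (single (ModuleCat.{u} A) (ComplexShape.up ℤ) 0).obj M ⟶ L)
    (hne : ∀ n : ℤ, n ≠ 0 → IsZero (L.homology n))
    (inj : ∀ a : M, (∃ w, L.d (-1) 0 w = φ.f 0 ((singleObjXSelf (ComplexShape.up ℤ) 0 M).inv a)) → a = 0)
    (surj : ∀ z : L.X 0, L.d 0 1 z = 0 → ∃ (a : M) (w : L.X (-1)),
      φ.f 0 ((singleObjXSelf (ComplexShape.up ℤ) 0 M).inv a) - z = L.d (-1) 0 w) : QuasiIso φ := by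
  let K := (single (ModuleCat.{u} A) (ComplexShape.up ℤ) 0).obj M
  refine ⟨fun n => ?_⟩
  by_cases hn : n = 0
  · subst hn
    rw [quasiIsoAt_iff_isIso_homologyMap, ConcreteCategory.isIso_iff_bijective]
    have hπ0 : ∀ (X : DRing.Cx A) (c : X.cycles 0), X.homologyπ 0 c = 0 ↔
        ∃ w, X.d (-1) 0 w = X.iCycles 0 c := by
      intro X c
      constructor
      · intro h
        obtain ⟨y, hy⟩ := (ShortComplex.moduleCat_exact_iff _).1 (ShortComplex.exact_of_g_is_cokernel
          (ShortComplex.mk (X.toCycles (-1) 0) (X.homologyπ 0) (X.toCycles_comp_homologyπ _ _))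
          (X.homologyIsCokernel (-1) 0 (by simp))) c h
        exact ⟨y, (ConcreteCategory.congr_hom (X.toCycles_i (-1) 0) y).symm.trans
          (congrArg (X.iCycles 0) hy)⟩
      · rintro ⟨y, hy⟩
        have e : X.toCycles (-1) 0 y = c := (ModuleCat.mono_iff_injective (X.iCycles 0)).1 inferInstance
          ((ConcreteCategory.congr_hom (X.toCycles_i (-1) 0) y).trans hy)
        rw [← e]
        exact ConcreteCategory.congr_hom (X.toCycles_comp_homologyπ (-1) 0) y
    have hmap : ∀ c : K.cycles 0, homologyMap φ 0 (K.homologyπ 0 c) =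
        L.homologyπ 0 (cyclesMap φ 0 c) := fun c =>
      ConcreteCategory.congr_hom (homologyπ_naturality φ 0) c
    have hcyc : ∀ c : K.cycles 0, L.iCycles 0 (cyclesMap φ 0 c) = φ.f 0 (K.iCycles 0 c) := fun c =>
      ConcreteCategory.congr_hom (cyclesMap_i φ 0) c
    constructor
    · rw [injective_iff_map_eq_zero]
      intro x hx
      obtain ⟨c, rfl⟩ := (ModuleCat.epi_iff_surjective (K.homologyπ 0)).1 inferInstance x
      rw [hmap, hπ0, hcyc] at hx
      refine (hπ0 K c).2 ⟨0, ?_⟩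
      have h := inj ((singleObjXSelf (ComplexShape.up ℤ) 0 M).hom (K.iCycles 0 c)) (by
        obtain ⟨w, hw⟩ := hx
        exact ⟨w, hw.trans (congrArg (φ.f 0)
          (ConcreteCategory.congr_hom (singleObjXSelf (ComplexShape.up ℤ) 0 M).hom_inv_id _).symm)⟩)
      rw [map_zero]
      exact ((ModuleCat.mono_iff_injective (singleObjXSelf (ComplexShape.up ℤ) 0 M).hom).1 inferInstance
        (h.trans (map_zero _).symm)).symm
    · intro y
      obtain ⟨c, rfl⟩ := (ModuleCat.epi_iff_surjective (L.homologyπ 0)).1 inferInstance y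
      obtain ⟨a, w, hw⟩ := surj (L.iCycles 0 c) (ConcreteCategory.congr_hom (L.iCycles_d 0 1) c)
      let x : K.X 0 := (singleObjXSelf (ComplexShape.up ℤ) 0 M).inv a
      obtain ⟨c', hc'⟩ : ∃ c' : K.cycles 0, K.iCycles 0 c' = x :=
        (ShortComplex.moduleCat_exact_iff _).1 (ShortComplex.exact_of_f_is_kernel
          (ShortComplex.mk (K.iCycles 0) (K.d 0 1) (K.iCycles_d _ _))
          (K.cyclesIsKernel 0 1 (by simp))) x (by simp [K])
      refine ⟨K.homologyπ 0 c', ?_⟩
      rw [hmap, ← sub_eq_zero, ← map_sub, hπ0, map_sub, hcyc, hc']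
      exact ⟨w, hw.symm⟩
  · rw [quasiIsoAt_iff_exactAt _ _ (exactAt_single_obj (ComplexShape.up ℤ) 0 M n hn)]
    exact (exactAt_iff_isZero_homology _ _).2 (hne n hn)

/-- The Hom complex of a K-projective complex with trivial derived endomorphisms is the unit. -/
theorem nonempty_iso_homCx (E : DRing.Cx A) [E.IsKProjective]
    (hvan : ∀ n : ℤ, n ≠ 0 → ∀ g : DerivedCategory.Q.obj E ⟶ (DerivedCategory.Q.obj E)⟦n⟧, g = 0)
    (hend : Function.Bijective (fun a : A => a • 𝟙 (DerivedCategory.Q.obj E))) :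
    Nonempty (DTen.unit A ≅ DerivedCategory.Q.obj (DRing.homCx E E)) := by
  let θ : A →ₗ[A] Cochain E E 0 := LinearMap.toSpanSingleton A _ (Cochain.ofHom (𝟙 E))
  let φ : (single (ModuleCat.{u} A) (ComplexShape.up ℤ) 0).obj (ModuleCat.of A A) ⟶ DRing.homCx E E :=
    mkHomFromSingle (ModuleCat.ofHom θ) fun k _ => by
      refine ModuleCat.hom_ext (LinearMap.ext fun (a : A) => ?_)
      change δ 0 k (a • Cochain.ofHom (𝟙 E)) = 0
      rw [δ_smul, δ_ofHom, smul_zero]
  have hφ : ∀ a : A, φ.f 0 ((singleObjXSelf (ComplexShape.up ℤ) 0 (ModuleCat.of A A)).inv a) =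
      Cochain.ofHom (a • 𝟙 E) := by
    intro a
    have e : φ.f 0 = (singleObjXSelf (ComplexShape.up ℤ) 0 (ModuleCat.of A A)).hom ≫ ModuleCat.ofHom θ :=
      mkHomFromSingle_f _ _
    rw [e]
    change θ ((singleObjXSelf (ComplexShape.up ℤ) 0 (ModuleCat.of A A)).hom
      ((singleObjXSelf (ComplexShape.up ℤ) 0 (ModuleCat.of A A)).inv a)) = _
    refine (congrArg θ (ConcreteCategory.congr_hom
      (singleObjXSelf (ComplexShape.up ℤ) 0 (ModuleCat.of A A)).inv_hom_id a)).trans ?_
    refine Cochain.ext₀ (F := E) (G := E) _ _ fun p => ?_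
    change a • 𝟙 (E.X p) = (Cochain.ofHom (a • 𝟙 E)).v p p (add_zero p)
    simp
  have hQ : ∀ a : A, DerivedCategory.Q.map (a • 𝟙 E) = a • 𝟙 (DerivedCategory.Q.obj E) := fun a => by
    rw [Functor.map_smul, CategoryTheory.Functor.map_id]
  suffices QuasiIso φ from
    have : IsIso (DerivedCategory.Q.map φ) := (DerivedCategory.isIso_Q_map_iff_quasiIso _ _).2 this
    ⟨asIso (DerivedCategory.Q.map φ)⟩
  refine quasiIso_from_single φ (fun n hn => ?_) (fun a => ?_) (fun (z : Cochain E E 0) hz => ?_)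
  · refine (FlatCxBase.isZero_homology_iff (FlatCxBase.cochain_prev n) (FlatCxBase.cochain_next n)).2
      fun (z : Cochain E E n) hz => ?_
    let c := Cocycle.mk z (n + 1) rfl hz
    let g : E ⟶ E⟦n⟧ := Cocycle.equivHomShift.symm c
    have hg : DerivedCategory.Q.map g = DerivedCategory.Q.map 0 := by
      rw [Functor.map_zero, ← cancel_mono ((DerivedCategory.Q.commShiftIso n).hom.app E), zero_comp]
      exact hvan n hn _
    obtain ⟨H⟩ := (Q_map_eq_iff_of_isKProjective _ _ _ _).1 hg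
    have h : CohomologyClass.toHom (CohomologyClass.mk c) = 0 := by
      rw [CohomologyClass.toHom_mk]
      exact (HomotopyCategory.eq_of_homotopy _ _ H).trans (Functor.map_zero _ _ _)
    rw [CohomologyClass.toHom_mk_eq_zero_iff, mem_coboundaries_iff c (n - 1) (by omega)] at h
    obtain ⟨β, hβ⟩ := h
    exact ⟨β, hβ⟩
  · rintro ⟨(w : Cochain E E (-1)), hw⟩
    rw [hφ] at hw
    refine hend.1 ?_
    change a • 𝟙 _ = (0 : A) • 𝟙 _
    rw [zero_smul, ← hQ, ← DerivedCategory.Q.map_zero E E]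
    refine (Q_map_eq_iff_of_isKProjective _ _ _ _).2 ⟨(Cochain.equivHomotopy _ _).symm ⟨w, ?_⟩⟩
    rw [Cochain.ofHom_zero, add_zero]
    exact hw.symm
  · let g : E ⟶ E := Cocycle.equivHom E E |>.symm (Cocycle.mk z 1 rfl hz)
    have hgz : Cochain.ofHom g = z :=
      congrArg Subtype.val ((Cocycle.equivHom E E).apply_symm_apply (Cocycle.mk z 1 rfl hz))
    obtain ⟨a, ha⟩ := hend.2 (DerivedCategory.Q.map g)
    obtain ⟨H⟩ := (Q_map_eq_iff_of_isKProjective E E (a • 𝟙 E) g).1 ((hQ a).trans ha)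
    refine ⟨a, Cochain.ofHomotopy H, ?_⟩
    rw [hφ, ← hgz]
    exact (δ_ofHomotopy H).symm

variable [DTen.HasLTen A]

/-- A perfect object with trivial derived endomorphisms is invertible. -/
theorem isInvertible_of_end (K : Dual.D A) (hK : DRing.IsPerfect A K)
    (hvan : ∀ n : ℤ, n ≠ 0 → ∀ g : K ⟶ K⟦n⟧, g = 0)
    (hend : Function.Bijective (fun a : A => a • 𝟙 K)) : DTen.IsInvertible A K := by
  obtain ⟨E, a', b', hv, hp, ⟨e⟩⟩ := hK
  obtain ⟨D, ⟨hpair⟩, hE, hD⟩ := StrictDual.exists_exactPairing E hv hp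
  have := Groth.DAlg.isKProjective_of_bounded (fun i hi => hv i (Or.inr hi)) fun i => (hp i).2
  obtain ⟨u⟩ := nonempty_iso_homCx E
    (fun n hn g => by
      have h := hvan n hn (e.inv ≫ g ≫ e.hom⟦n⟧')
      rw [← cancel_mono (e.hom⟦n⟧'), ← cancel_epi e.inv, h]
      simp)
    (by
      have : (fun a : A => a • 𝟙 (DerivedCategory.Q.obj E)) =
          (fun f : K ⟶ K => e.hom ≫ f ≫ e.inv) ∘ fun a : A => a • 𝟙 K := by
        funext a
        simp [Linear.smul_comp, Linear.comp_smul]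
      rw [this]
      exact Function.Bijective.comp
        ⟨fun f g h => (cancel_mono e.inv).1 ((cancel_epi e.hom).1 h),
          fun f => ⟨e.inv ≫ f ≫ e.hom, by simp⟩⟩ hend)
  let j : DRing.homCx E E ≅ (E ⊗ D : DRing.Cx A) :=
    (Adjunction.rightAdjointUniq (InternalHom.adjC E) (tensorRightAdjunction E D)).app E
  let L := DerivedCategory.Q.obj D
  have h₁ := Groth.DTenCalc.isIso_ε E D hE
  have h₂ := Groth.DTenCalc.isIso_ε D E hD
  refine ⟨L, ⟨(DTen.LTen₂ A).mapIso (Iso.prod e.symm (Iso.refl L)) ≪≫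
      asIso ((DTen.ε A).app (E, D)) ≪≫ DerivedCategory.Q.mapIso j.symm ≪≫ u.symm⟩,
    ⟨(DTen.LTen₂ A).mapIso (Iso.prod (Iso.refl L) e.symm) ≪≫
      asIso ((DTen.ε A).app (D, E)) ≪≫ DerivedCategory.Q.mapIso (DTen.braidCx D E ≪≫ j.symm) ≪≫ u.symm⟩⟩

end Groth.Agent.DTenPro
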