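import Groth.Agent.DAlg.FreeLocusAmp
import Groth.Agent.DTenCalc.RHomComputes
import Mathlib.RingTheory.OrzechProperty
import Mathlib.RingTheory.LocalProperties.Projective

/-!
# Perfect objects are those without high-degree maps to the residue fields
-/

set_option autoImplicit false
universe u
open CategoryTheory CategoryTheory.Limits HomologicalComplex
open scoped TensorProduct
attribute [local instance] HasDerivedCategory.standard

namespace Groth.Agent.DTenPro

open Groth.DAlg FlatCxBase

variable {A : Type u} [CommRing A]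

/-- A map with a retraction modulo a maximal ideal has free source at that point if its target is
finite projective. -/
theorem free_of_retraction_mod (m : Ideal A) [hm : m.IsMaximal] {M G : Type u} [AddCommGroup M]
    [Module A M] [Module.Finite A M] [AddCommGroup G] [Module A G] [Module.Finite A G]
    [Module.Projective A G] (f : M →ₗ[A] G) (r : G →ₗ[A] M)
    (h : ∀ x, x - r (f x) ∈ m • (⊤ : Submodule A M)) :
    Module.Free (Localization.AtPrime m) (LocalizedModule m.primeCompl M) := by
  let S := m.primeCompl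
  let L := Localization.AtPrime m
  let μ := LocalizedModule.mkLinearMap S M
  let ν := LocalizedModule.mkLinearMap S G
  let fₗ : LocalizedModule S M →ₗ[L] LocalizedModule S G := IsLocalizedModule.mapExtendScalars S μ ν L f
  let rₗ : LocalizedModule S G →ₗ[L] LocalizedModule S M := IsLocalizedModule.mapExtendScalars S ν μ L r
  let e : LocalizedModule S M →ₗ[L] LocalizedModule S M := rₗ ∘ₗ fₗ
  have : Module.Finite L (LocalizedModule S M) := Module.Finite.of_isLocalizedModule S μ
  have : Module.Projective L (LocalizedModule S G) := Module.projective_of_isLocalizedModule S ν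
  have hmem : ∀ x, x - e x ∈ IsLocalRing.maximalIdeal L • (⊤ : Submodule L (LocalizedModule S M)) := by
    intro x
    obtain ⟨⟨q, s⟩, rfl⟩ := IsLocalizedModule.mk'_surjective S μ x
    have he : e (IsLocalizedModule.mk' μ q s) = IsLocalizedModule.mk' μ (r (f q)) s := by
      change IsLocalizedModule.map S ν μ r (IsLocalizedModule.map S μ ν f (IsLocalizedModule.mk' μ q s)) = _
      rw [IsLocalizedModule.map_mk', IsLocalizedModule.map_mk']
    simp only [Function.uncurry_apply_pair]
    rw [he, ← IsLocalizedModule.mk'_sub]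
    refine Submodule.smul_induction_on (p := fun y => IsLocalizedModule.mk' μ y s ∈
      IsLocalRing.maximalIdeal L • (⊤ : Submodule L (LocalizedModule S M))) (h q)
      (fun c hc y _ => ?_) (fun y z hy hz => ?_)
    · rw [IsLocalizedModule.mk'_smul, ← algebraMap_smul L c]
      refine Submodule.smul_mem_smul ?_ trivial
      rw [← IsLocalization.AtPrime.map_eq_maximalIdeal m L]
      exact Ideal.mem_map_of_mem _ hc
    · rw [IsLocalizedModule.mk'_add]
      exact add_mem hy hz
  have hsurj : Function.Surjective e := by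
    rw [← LinearMap.range_eq_top, eq_top_iff]
    refine Submodule.le_of_le_smul_of_le_jacobson_bot Module.Finite.fg_top
      (IsLocalRing.maximalIdeal_le_jacobson ⊥) fun x _ => ?_
    have hx : x = e x + (x - e x) := (add_sub_cancel _ _).symm
    rw [hx]
    exact Submodule.add_mem_sup ⟨x, rfl⟩ (hmem x)
  let E := LinearEquiv.ofBijective e
    ⟨OrzechProperty.injective_of_surjective_endomorphism e hsurj, hsurj⟩
  have : Module.Projective L (LocalizedModule S M) :=
    Module.Projective.of_split fₗ (E.symm.toLinearMap ∘ₗ rₗ)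
      (LinearMap.ext fun x => E.symm_apply_apply x)
  exact Module.free_of_flat_of_isLocalRing

/-- The homology of `F ⊗ κ` in degree `n` vanishes if there are no maps `F ⟶ κ[-n]`. -/
theorem isZero_homology_extCx_of_hom (F : DRing.Cx A) [F.IsKProjective] (m : Ideal A) [m.IsMaximal]
    (n : ℤ)
    (h : ∀ g : DerivedCategory.Q.obj F ⟶
      (DerivedCategory.singleFunctor (ModuleCat.{u} A) n).obj (ModuleCat.of A (A ⧸ m)), g = 0) :
    IsZero ((extCx (algebraMap A (A ⧸ m)) F).homology n) := by
  let _ : Field (A ⧸ m) := Ideal.Quotient.field m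
  let X := extCx (algebraMap A (A ⧸ m)) F
  refine (isZero_homology_iff (cochain_prev n) (cochain_next n)).2 fun x hx => ?_
  by_contra hne
  have hx' : x ∉ LinearMap.range (X.d (n - 1) n).hom := fun ⟨w, hw⟩ => hne ⟨w, hw⟩
  obtain ⟨ψ, hψx, hψ⟩ := Submodule.exists_dual_map_eq_bot_of_notMem hx' inferInstance
  refine hψx ?_
  have hker : ∀ w, ψ ((X.d (n - 1) n).hom w) = 0 := fun w => by
    have h₁ : ψ ((X.d (n - 1) n).hom w) ∈ Submodule.map ψ (LinearMap.range (X.d (n - 1) n).hom) :=
      Submodule.mem_map_of_mem ⟨w, rfl⟩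
    rw [hψ] at h₁
    exact h₁
  let eX := fun i => extendEquiv (A ⧸ m) (F.X i)
  let φ : F.X n →ₗ[A] A ⧸ m :=
    (ψ.comp (eX n).symm.toLinearMap).restrictScalars A ∘ₗ TensorProduct.mk A (A ⧸ m) (F.X n) 1
  have hφ : F.d (n - 1) n ≫ ModuleCat.ofHom φ = 0 := by
    apply ModuleCat.hom_ext
    refine LinearMap.ext fun w => ?_
    change ψ ((eX n).symm (1 ⊗ₜ F.d (n - 1) n w)) = 0
    have e₁ := extendEquiv_bcCx_d (A ⧸ m) F (n - 1) n ((eX (n - 1)).symm (1 ⊗ₜ w))
    rw [LinearEquiv.apply_symm_apply, LinearMap.baseChange_tmul] at e₁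
    rw [show (eX n).symm (1 ⊗ₜ F.d (n - 1) n w) = X.d (n - 1) n ((eX (n - 1)).symm (1 ⊗ₜ w)) from
      (LinearEquiv.symm_apply_eq _).2 e₁.symm]
    exact hker _
  let g : F ⟶ (CochainComplex.singleFunctor (ModuleCat.{u} A) n).obj (ModuleCat.of A (A ⧸ m)) :=
    HomologicalComplex.mkHomToSingle (ModuleCat.ofHom φ) fun i hi => by
      obtain rfl : i = n - 1 := by change i + 1 = n at hi; omega
      exact hφ
  obtain ⟨H⟩ := (Groth.DTenCalc.Q_map_eq_iff_of_isKProjective _ _ g 0).1
    ((h (DerivedCategory.Q.map g)).trans (Functor.map_zero _ _ _).symm)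
  let θ : F.X (n + 1) →ₗ[A] A ⧸ m :=
    (H.hom (n + 1) n ≫ (singleObjXSelf (ComplexShape.up ℤ) n (ModuleCat.of A (A ⧸ m))).hom).hom
  have hθ : ModuleCat.ofHom φ = F.d n (n + 1) ≫ ModuleCat.ofHom θ := by
    have e₁ := H.comm n
    rw [HomologicalComplex.zero_f, add_zero, dNext_eq H.hom (show (ComplexShape.up ℤ).Rel n (n + 1) from rfl),
      prevD_eq H.hom (show (ComplexShape.up ℤ).Rel (n - 1) n by simp)] at e₁
    have e₂ := e₁ =≫ (singleObjXSelf (ComplexShape.up ℤ) n (ModuleCat.of A (A ⧸ m))).hom
    simp [g, CochainComplex.singleFunctor, CochainComplex.singleFunctors] at e₂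
    refine e₂.trans ((congrArg (· ≫ _) (add_zero _)).trans ?_)
    exact Category.assoc _ _ _
  have key : ∀ z : (A ⧸ m) ⊗[A] F.X n, ψ ((eX n).symm z) =
      LinearMap.liftBaseChange (A ⧸ m) θ ((F.d n (n + 1)).hom.baseChange (A ⧸ m) z) := by
    intro z
    induction z using TensorProduct.induction_on with
    | zero =>
      exact ((congrArg ψ (eX n).symm.map_zero).trans ψ.map_zero).trans (by simp)
    | tmul s y =>
      have h₁ : ψ ((eX n).symm (1 ⊗ₜ y)) = θ (F.d n (n + 1) y) := congrArg (fun t => t.hom y) hθ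
      rw [show (s ⊗ₜ[A] y : (A ⧸ m) ⊗[A] F.X n) = s • ((1 : A ⧸ m) ⊗ₜ y) by
        rw [TensorProduct.smul_tmul', smul_eq_mul, mul_one]]
      refine (congrArg ψ ((eX n).symm.map_smul s _)).trans ((ψ.map_smul s _).trans ?_)
      rw [map_smul, map_smul, LinearMap.baseChange_tmul, LinearMap.liftBaseChange_tmul, one_smul]
      exact congrArg (s • ·) h₁
    | add u v hu hv =>
      refine (congrArg ψ ((eX n).symm.map_add u v)).trans ((ψ.map_add _ _).trans ?_)
      rw [map_add, map_add]
      exact congrArg₂ (· + ·) hu hv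
  have e₃ := key (eX n x)
  refine ((congrArg ψ ((eX n).symm_apply_apply x)).symm.trans e₃).trans ?_
  rw [← extendEquiv_bcCx_d]
  refine (congrArg (LinearMap.liftBaseChange (A ⧸ m) θ) ?_).trans (map_zero _)
  exact (congrArg (extendEquiv (A ⧸ m) (F.X (n + 1))) hx).trans (map_zero _)

/-- A pseudo-coherent object with cohomology bounded below is perfect if for every maximal ideal it
has no maps to the residue field placed in very negative degrees. -/
theorem isPerfect_of_forall_hom_residue (K : Dual.D A) (hK : DRing.IsPseudoCoherent' A K) (a₀ : ℤ)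
    (hz : ∀ i < a₀, Subsingleton (Dual.HD A K i))
    (h : ∀ m : Ideal A, m.IsMaximal → ∃ N : ℤ, ∀ n < N, ∀ g : K ⟶
      (DerivedCategory.singleFunctor (ModuleCat.{u} A) n).obj (ModuleCat.of A (A ⧸ m)), g = 0) :
    DRing.IsPerfect A K := by
  obtain ⟨F, B, hB, hF, ⟨e⟩⟩ := id hK
  have hFP : DRing.TermwiseFiniteProjective F := fun i => ⟨(hF i).1, have := (hF i).2; inferInstance⟩
  have := isKProjective_of_bounded hB fun i => (hFP i).2
  have := fun i j => finitePresentation_coker' F hFP i j
  have hzF : ∀ i < a₀, IsZero (F.homology i) := fun i hi =>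
    isZero_homology_of_subsingleton (by have := hz i hi; exact (HDCongr e i).toEquiv.subsingleton)
  let U : ℕ → Set (PrimeSpectrum A) := fun n => Module.freeLocus A (Coker F (a₀ - n - 1) (a₀ - n))
  have hmono : ∀ {k n : ℕ}, k ≤ n → U k ⊆ U n := fun {k n} hkn y hy => by
    have h1 := torAmp_of_mem_freeLocus F hB hFP y (a₀ - k) (fun i hi => hzF i (by omega)) hy
    exact mem_freeLocus_of_torAmp F hB hFP y _ (TorAmp.mono h1 (by omega) le_rfl)
  have hcov : ∀ y, ∃ n, y ∈ U n := fun y => by
    obtain ⟨m, hm, hym⟩ := Ideal.exists_le_maximal y.asIdeal y.2.ne_top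
    obtain ⟨N, hN⟩ := h m hm
    let k := (a₀ - N + 1).toNat
    refine ⟨k, Specializes.mem_open
      ((PrimeSpectrum.le_iff_specializes y ⟨m, hm.isPrime⟩).1 hym) Module.isOpen_freeLocus ?_⟩
    let j : ℤ := a₀ - k
    let _ : Field (A ⧸ m) := Ideal.Quotient.field m
    have hz' : IsZero ((extCx (algebraMap A (A ⧸ m)) F).homology j) :=
      isZero_homology_extCx_of_hom F m j fun g => by
        have e₁ := hN j (by simp only [j, k]; omega) (e.inv ≫ g)
        rw [← cancel_epi e.inv, e₁, comp_zero]
    have := (hFP (j + 1)).1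
    have := (hFP (j + 1)).2
    obtain ⟨r, hr⟩ := exists_retraction_mod (S := A ⧸ m) F (i := j - 1) Ideal.Quotient.mk_surjective
      (by omega) (rfl : j + 1 = j + 1) hz'
    refine Module.mem_freeLocus.2 (free_of_retraction_mod m (dBar F (j - 1) j (j + 1)) r fun x => ?_)
    have := hr x
    rwa [show algebraMap A (A ⧸ m) = Ideal.Quotient.mk m from rfl, Ideal.mk_ker] at this
  obtain ⟨t, ht⟩ := isCompact_univ.elim_finite_subcover U (fun n => Module.isOpen_freeLocus)
    fun y _ => Set.mem_iUnion.2 (hcov y)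
  have hall : U (t.sup id) = Set.univ := Set.eq_univ_of_forall fun y => by
    obtain ⟨n, hn, hy⟩ := Set.mem_iUnion₂.1 (ht (Set.mem_univ y))
    exact hmono (Finset.le_sup (f := id) hn) hy
  have := Module.freeLocus_eq_univ_iff.1 hall
  have hamp := torAmp_of_flat_coker F hB (termwiseFlat_of_finProj F hFP) (a₀ - (t.sup id : ℕ))
    inferInstance fun i hi => hzF i (by omega)
  exact isPerfect_iff.2 ⟨hK, _, B, TorAmp.of_iso hamp e⟩

end Groth.Agent.DTenPro
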