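import Groth.Agent.DTenPro.Triangles
import Groth.Agent.DTenCalc.Computes
import Groth.Agent.DAlg.TensorSingleRight
import Groth.Prelude.Def_ega3

/-!
# The inverse systems `A/(f₁^{n+1}, …, f_r^{n+1})` and the plain tensor product with a complex
-/

set_option autoImplicit false
set_option synthInstance.maxHeartbeats 400000
universe u
open CategoryTheory CategoryTheory.Limits MonoidalCategory Opposite
attribute [local instance] HasDerivedCategory.standard

namespace Groth.Agent.DTenPro

open Groth.DAlg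

variable {A : Type u} [CommRing A]

/-- `X ↦ K ⊗ X[0]`. -/
noncomputable abbrev tenC (K : DRing.Cx A) : ModuleCat.{u} A ⥤ DRing.Cx A :=
  HomologicalComplex.single (ModuleCat.{u} A) (ComplexShape.up ℤ) 0 ⋙ tensorLeft K

/-- Functoriality of `tenC` in the complex. -/
noncomputable abbrev tenCMap {P K : DRing.Cx A} (σ : P ⟶ K) : tenC P ⟶ tenC K :=
  Functor.whiskerLeft (HomologicalComplex.single (ModuleCat.{u} A) (ComplexShape.up ℤ) 0)
    ((curriedTensor (DRing.Cx A)).map σ)

/-- The terms of `K ⊗ X[0]`. -/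
noncomputable def tenCIso (K : DRing.Cx A) (i : ℤ) :
    tenC K ⋙ HomologicalComplex.eval (ModuleCat.{u} A) (ComplexShape.up ℤ) i ≅ tensorLeft (K.X i) :=
  (NatIso.ofComponents (fun N =>
    { hom := TensorSingleRight.fwd (curriedTensor (ModuleCat.{u} A)) N K i
      inv := TensorSingleRight.bwd (curriedTensor (ModuleCat.{u} A)) N K i
      hom_inv_id := TensorSingleRight.fwd_bwd (curriedTensor (ModuleCat.{u} A)) N K i
      inv_hom_id := TensorSingleRight.bwd_fwd (curriedTensor (ModuleCat.{u} A)) N K i })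
    (fun {N N'} φ => by
      change (K.X i ◁ φ) ≫ TensorSingleRight.fwd (curriedTensor (ModuleCat.{u} A)) N' K i =
        TensorSingleRight.fwd (curriedTensor (ModuleCat.{u} A)) N K i ≫
          (HomologicalComplex.mapBifunctorMap (𝟙 K)
            ((HomologicalComplex.single (ModuleCat.{u} A) (ComplexShape.up ℤ) 0).map φ)
            (curriedTensor (ModuleCat.{u} A)) (ComplexShape.up ℤ)).f i
      rw [TensorSingleRight.fwd, TensorSingleRight.fwd, Category.assoc,
        HomologicalComplex.ι_mapBifunctorMap]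
      simp [HomologicalComplex.single_map_f_self])).symm

instance (K : DRing.Cx A) : (tenC K).PreservesZeroMorphisms where
  map_zero X Y := by
    ext i : 1
    have h := (tenCIso K i).hom.naturality (0 : X ⟶ Y)
    rw [(tensorLeft (K.X i)).map_zero, comp_zero] at h
    exact (cancel_mono ((tenCIso K i).hom.app Y)).1 (h.trans zero_comp.symm)

/-- The terms of `K ⊗ X[0]`. -/
noncomputable abbrev tenCApp (K : DRing.Cx A) (i : ℤ) (X : ModuleCat.{u} A) :
    ((tenC K).obj X).X i ≅ K.X i ⊗ X :=
  (tenCIso K i).app X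

lemma tenCApp_nat (K : DRing.Cx A) (i : ℤ) {X Y : ModuleCat.{u} A} (g : X ⟶ Y) :
    ((tenC K).map g).f i ≫ (tenCApp K i Y).hom = (tenCApp K i X).hom ≫ (K.X i ◁ g) :=
  (tenCIso K i).hom.naturality g

theorem tenC_exact (K : DRing.Cx A) (S : ShortComplex (ModuleCat.{u} A)) (hS : S.Exact) [Epi S.g] :
    (S.map (tenC K)).Exact ∧ Epi (S.map (tenC K)).g := by
  have hg : Function.Surjective S.g.hom := (ModuleCat.epi_iff_surjective _).1 inferInstance
  have hfg := (ShortComplex.ShortExact.moduleCat_exact_iff_function_exact S).1 hS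
  have h : ∀ i, ((S.map (tenC K)).map (HomologicalComplex.eval _ _ i)).Exact ∧
      Epi ((S.map (tenC K)).map (HomologicalComplex.eval _ _ i)).g := fun i => by
    let T : ShortComplex (ModuleCat.{u} A) := ShortComplex.mk (K.X i ◁ S.f) (K.X i ◁ S.g)
      (by rw [← MonoidalCategory.whiskerLeft_comp, S.zero, MonoidalPreadditive.whiskerLeft_zero])
    have hT : T.Exact :=
      (ShortComplex.ShortExact.moduleCat_exact_iff_function_exact T).2 (lTensor_exact (K.X i) hfg hg)
    have hTg : Epi T.g := (ModuleCat.epi_iff_surjective _).2 (LinearMap.lTensor_surjective _ hg)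
    let e : (S.map (tenC K)).map (HomologicalComplex.eval _ _ i) ≅ T :=
      ShortComplex.isoMk (tenCApp K i S.X₁) (tenCApp K i S.X₂) (tenCApp K i S.X₃)
        (tenCApp_nat K i S.f).symm (tenCApp_nat K i S.g).symm
    refine ⟨ShortComplex.exact_of_iso e.symm hT, ?_⟩
    have : Epi (T.g ≫ e.inv.τ₃) := epi_comp _ _
    rw [← e.inv.comm₂₃] at this
    exact epi_of_epi e.inv.τ₂ _
  exact ⟨HomologicalComplex.exact_of_degreewise_exact _ fun i => (h i).1,
    HomologicalComplex.epi_of_epi_f _ fun i => (h i).2⟩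

/-- A system with transition maps multiplied by powers of `f`. -/
noncomputable def twist (f : A) (X : ℕᵒᵖ ⥤ ModuleCat.{u} A) : ℕᵒᵖ ⥤ ModuleCat.{u} A where
  obj := X.obj
  map {a b} φ := f ^ (a.unop - b.unop) • X.map φ
  map_id a := by simp
  map_comp {a b c} φ ψ := by
    have h₁ := leOfHom φ.unop
    have h₂ := leOfHom ψ.unop
    rw [X.map_comp, Linear.smul_comp, Linear.comp_smul, smul_smul, ← pow_add,
      show a.unop - b.unop + (b.unop - c.unop) = a.unop - c.unop by omega]

/-- Multiplication by `f ^ (n + 1)`. -/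
noncomputable def twistMap (f : A) (X : ℕᵒᵖ ⥤ ModuleCat.{u} A) : twist f X ⟶ X where
  app a := f ^ (a.unop + 1) • 𝟙 (X.obj a)
  naturality {a b} φ := by
    have h₁ := leOfHom φ.unop
    change (f ^ (a.unop - b.unop) • X.map φ) ≫ (f ^ (b.unop + 1) • 𝟙 (X.obj b)) =
      (f ^ (a.unop + 1) • 𝟙 (X.obj a)) ≫ X.map φ
    rw [Linear.smul_comp, Linear.comp_smul, smul_smul, Category.comp_id, ← pow_add,
      Linear.smul_comp, Category.id_comp,
      show a.unop - b.unop + (b.unop + 1) = a.unop + 1 by omega]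

/-- The sequences `X_n ⟶ X_n ⟶ X_n / f^{n+1} X_n`. -/
noncomputable def seq (f : A) (X : ℕᵒᵖ ⥤ ModuleCat.{u} A) :
    ℕᵒᵖ ⥤ ShortComplex (ModuleCat.{u} A) where
  obj a := ShortComplex.mk ((twistMap f X).app a) (cokernel.π _) (cokernel.condition _)
  map {a b} φ := ShortComplex.Hom.mk ((twist f X).map φ) (X.map φ)
    (cokernel.map _ _ _ _ ((twistMap f X).naturality φ).symm)
    ((twistMap f X).naturality φ) (by simp)
  map_id a := by
    apply ShortComplex.hom_ext
    · exact (twist f X).map_id a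
    · exact X.map_id a
    · rw [← cancel_epi (cokernel.π ((twistMap f X).app a))]
      simp
  map_comp {a b c} φ ψ := by
    apply ShortComplex.hom_ext
    · exact (twist f X).map_comp φ ψ
    · exact X.map_comp φ ψ
    · rw [← cancel_epi (cokernel.π ((twistMap f X).app a))]
      simp

/-- The systems `A/(g^{n+1} : g ∈ l)`. -/
noncomputable def sys : List A → (ℕᵒᵖ ⥤ ModuleCat.{u} A)
  | [] => (Functor.const ℕᵒᵖ).obj (ModuleCat.of A A)
  | f :: l => seq f (sys l) ⋙ ShortComplex.π₃

lemma finite_sys : ∀ (l : List A) (a : ℕᵒᵖ), Module.Finite A ((sys l).obj a)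
  | [], _ => inferInstanceAs (Module.Finite A A)
  | f :: l, a => by
      have := finite_sys l a
      exact Module.Finite.of_surjective (cokernel.π ((twistMap f (sys l)).app a)).hom
        ((ModuleCat.epi_iff_surjective _).1 inferInstance)

/-- The projection `A ⟶ sys l`. -/
noncomputable def proj : (l : List A) → ((Functor.const ℕᵒᵖ).obj (ModuleCat.of A A) ⟶ sys l)
  | [] => 𝟙 _
  | f :: l => proj l ≫
      { app := fun a => cokernel.π ((twistMap f (sys l)).app a)
        naturality := fun _ _ φ => ((seq f (sys l)).map φ).comm₂₃ }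

lemma proj_spec : ∀ (l : List A) (n : ℕ), Function.Surjective ((proj l).app (op n)).hom ∧
    LinearMap.ker ((proj l).app (op n)).hom = Ideal.span {x | ∃ g ∈ l, g ^ (n + 1) = x}
  | [], n => by
      refine ⟨fun x => ⟨x, rfl⟩, ?_⟩
      simp only [List.not_mem_nil, false_and, exists_false, Set.ofPred_false, Ideal.span_empty]
      exact LinearMap.ker_id
  | f :: l, n => by
      obtain ⟨hs, hk⟩ := proj_spec l n
      let φ := (twistMap f (sys l)).app (op n)
      have hπ : Function.Surjective (cokernel.π φ).hom :=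
        (ModuleCat.epi_iff_surjective _).1 inferInstance
      have hker : LinearMap.ker (cokernel.π φ).hom = LinearMap.range φ.hom :=
        ((ShortComplex.moduleCat_exact_iff_range_eq_ker _).1
          (ShortComplex.exact_cokernel φ)).symm
      refine ⟨hπ.comp hs, ?_⟩
      change LinearMap.ker ((cokernel.π φ).hom ∘ₗ ((proj l).app (op n)).hom) = _
      rw [LinearMap.ker_comp, hker,
        show {x | ∃ g ∈ f :: l, g ^ (n + 1) = x} =
          insert (f ^ (n + 1)) {x | ∃ g ∈ l, g ^ (n + 1) = x} by ext; simp [eq_comm],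
        Ideal.span_insert, ← hk]
      let p : A →ₗ[A] (sys l).obj (op n) := ((proj l).app (op n)).hom
      ext (x : A)
      simp only [Submodule.mem_comap, LinearMap.mem_range, Submodule.mem_sup]
      constructor
      · rintro ⟨y, hy⟩
        obtain ⟨c, rfl⟩ : ∃ c : A, p c = y := hs y
        refine ⟨f ^ (n + 1) * c, Ideal.mem_span_singleton.2 (dvd_mul_right _ _),
          x - f ^ (n + 1) * c, ?_, add_sub_cancel _ _⟩
        change p (x - f ^ (n + 1) • c) = 0
        rw [map_sub, LinearMap.map_smul]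
        exact sub_eq_zero.2 hy.symm
      · rintro ⟨y, hy, z, hz, rfl⟩
        obtain ⟨c, rfl⟩ := Ideal.mem_span_singleton.1 hy
        refine ⟨((proj l).app (op n)).hom c, ?_⟩
        change f ^ (n + 1) • ((proj l).app (op n)).hom c =
          ((proj l).app (op n)).hom (f ^ (n + 1) • c + z)
        rw [map_add, LinearMap.map_smul, LinearMap.mem_ker.1 hz, add_zero]

theorem exists_twist_bound [IsNoetherianRing A] (f : A) (Y : ℕᵒᵖ ⥤ ModuleCat.{u} A) (n : ℕ)
    (hY : Module.Finite A (Y.obj (op n))) :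
    ∃ k : ℕ, ∀ (m : ℕ) (h : n ≤ m), n + k ≤ m → ∀ x : Y.obj (op m),
      f ^ (m + 1) • x = 0 → f ^ (m - n) • (ARSys.tr Y h).hom x = 0 := by
  let Z : ℕ →o Submodule A (Y.obj (op n)) :=
    ⟨fun l => LinearMap.ker (f ^ l • (LinearMap.id : Y.obj (op n) →ₗ[A] Y.obj (op n))),
      fun p q h x hx => by
        obtain ⟨d, rfl⟩ := Nat.exists_eq_add_of_le h
        simp only [LinearMap.mem_ker, LinearMap.smul_apply, LinearMap.id_apply] at hx ⊢
        rw [pow_add, mul_comm, mul_smul, hx, smul_zero]⟩
  obtain ⟨k, hk⟩ := monotone_stabilizes_iff_noetherian.2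
    (isNoetherian_of_isNoetherianRing_of_finite A (Y.obj (op n))) Z
  refine ⟨k, fun m h hm x hx => ?_⟩
  have h₁ : (ARSys.tr Y h).hom x ∈ Z (m + 1) :=
    (LinearMap.map_smul (ARSys.tr Y h).hom (f ^ (m + 1)) x).symm.trans
      ((congrArg (ARSys.tr Y h).hom hx).trans (map_zero _))
  rw [← hk (m + 1) (by omega), hk (m - n) (by omega)] at h₁
  exact h₁

theorem exists_bound_ten [IsNoetherianRing A] (E : ModuleCat.{u} A) [Module.Finite A E] (f : A)
    (X : ℕᵒᵖ ⥤ ModuleCat.{u} A) (n : ℕ) (hX : Module.Finite A (X.obj (op n))) :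
    ∃ k : ℕ, ∀ (m : ℕ) (h : n ≤ m), n + k ≤ m → ∀ x : (E ⊗ X.obj (op m) : ModuleCat.{u} A),
      (E ◁ (twistMap f X).app (op m)).hom x = 0 → (E ◁ ARSys.tr (twist f X) h).hom x = 0 := by
  obtain ⟨k, hk⟩ := exists_twist_bound f (X ⋙ tensorLeft E) n
    (inferInstanceAs (Module.Finite A (TensorProduct A E (X.obj (op n)))))
  refine ⟨k, fun m h hm x hx => ?_⟩
  change (E ◁ (f ^ (m + 1) • 𝟙 (X.obj (op m)))).hom x = 0 at hx
  rw [MonoidalLinear.whiskerLeft_smul, MonoidalCategory.whiskerLeft_id] at hx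
  change (E ◁ (f ^ (m - n) • ARSys.tr X h)).hom x = 0
  rw [MonoidalLinear.whiskerLeft_smul]
  exact hk m h hm x hx

theorem exists_bound_flat [IsNoetherianRing A] (f : A) (X : ℕᵒᵖ ⥤ ModuleCat.{u} A) (n : ℕ)
    (hX : Module.Finite A (X.obj (op n))) :
    ∃ k : ℕ, ∀ (E : ModuleCat.{u} A), Module.Flat A E → ∀ (m : ℕ) (h : n ≤ m), n + k ≤ m →
      ∀ x : (E ⊗ X.obj (op m) : ModuleCat.{u} A),
      (E ◁ (twistMap f X).app (op m)).hom x = 0 → (E ◁ ARSys.tr (twist f X) h).hom x = 0 := by
  obtain ⟨k, hk⟩ := exists_twist_bound f X n hX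
  refine ⟨k, fun E hE m h hm x hx => ?_⟩
  let φ := ((twistMap f X).app (op m)).hom
  let t := (ARSys.tr (twist f X) h).hom
  have he : Function.Exact ((LinearMap.ker φ).subtype.lTensor E) (φ.lTensor E) :=
    Module.Flat.lTensor_exact E (LinearMap.exact_subtype_ker_map φ)
  obtain ⟨y, rfl⟩ := (he x).1 hx
  have h0 : t ∘ₗ (LinearMap.ker φ).subtype = 0 :=
    LinearMap.ext fun z => hk m h hm z.1 z.2
  change (t.lTensor E) ((LinearMap.ker φ).subtype.lTensor E y) = 0
  rw [← LinearMap.comp_apply, ← LinearMap.lTensor_comp, h0]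
  simp

/-- Uniform vanishing of the transition maps on the kernels of `f ^ (n + 1)` on `K ⊗ X_n`. -/
def KerBound (K : DRing.Cx A) (f : A) (X : ℕᵒᵖ ⥤ ModuleCat.{u} A) : Prop :=
  ∀ n : ℕ, ∃ (m : ℕ) (h : n ≤ m), ∀ (i : ℤ) (x : (K.X i ⊗ X.obj (op m) : ModuleCat.{u} A)),
    (K.X i ◁ (twistMap f X).app (op m)).hom x = 0 → (K.X i ◁ ARSys.tr (twist f X) h).hom x = 0

theorem kerBound_flat [IsNoetherianRing A] {P : DRing.Cx A} (hP : DRing.TermwiseFlat P) (f : A)
    (X : ℕᵒᵖ ⥤ ModuleCat.{u} A) (hX : ∀ a, Module.Finite A (X.obj a)) : KerBound P f X := fun n => by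
  obtain ⟨k, hk⟩ := exists_bound_flat f X n (hX _)
  exact ⟨n + k, Nat.le_add_right n k, fun i x hx => hk _ (hP i) _ _ le_rfl x hx⟩

theorem kerBound_finite [IsNoetherianRing A] {K : DRing.Cx A} {a b : ℤ}
    (hK : DRing.VanishesOutside K a b) (hKf : ∀ i, Module.Finite A (K.X i)) (f : A)
    (X : ℕᵒᵖ ⥤ ModuleCat.{u} A) (hX : ∀ a, Module.Finite A (X.obj a)) : KerBound K f X := fun n => by
  choose k hk using fun i : ℤ => haveI := hKf i; exists_bound_ten (K.X i) f X n (hX _)
  refine ⟨n + (Finset.Icc a b).sup k, Nat.le_add_right n _, fun i x hx => ?_⟩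
  by_cases hi : a ≤ i ∧ i ≤ b
  · exact hk i _ _ (Nat.add_le_add_left (Finset.le_sup (Finset.mem_Icc.2 hi)) n) x hx
  · have hz : IsZero (K.X i) := hK i (by omega)
    have h0 : IsZero (K.X i ⊗ X.obj (op n)) := (tensorRight (X.obj (op n))).map_isZero hz
    exact (ModuleCat.subsingleton_of_isZero h0).elim _ _

theorem isProZero_seq₁ (K : DRing.Cx A) (f : A) (X : ℕᵒᵖ ⥤ ModuleCat.{u} A) (h : KerBound K f X) :
    DerCA.IsProZero (((seq f X ⋙ (tenC K).mapShortComplex) ⋙ seq₁) ⋙ ShortComplex.π₁) := by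
  intro n
  obtain ⟨m, hnm, hm⟩ := h n
  refine ⟨m, hnm, ?_⟩
  let φ := (tenC K).map ((twistMap f X).app (op m))
  let t := (tenC K).map (ARSys.tr (twist f X) hnm)
  have e : kernel.ι φ ≫ t = 0 := by
    ext i : 1
    rw [HomologicalComplex.comp_f, HomologicalComplex.zero_f,
      ← cancel_mono (tenCApp K i ((twist f X).obj (op n))).hom, zero_comp, Category.assoc,
      tenCApp_nat, ← Category.assoc]
    have h0 : ((kernel.ι φ).f i ≫ (tenCApp K i ((twist f X).obj (op m))).hom) ≫
        (K.X i ◁ (twistMap f X).app (op m)) = 0 := by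
      rw [Category.assoc, ← tenCApp_nat, ← Category.assoc, ← HomologicalComplex.comp_f,
        kernel.condition, HomologicalComplex.zero_f, zero_comp]
    ext x
    exact hm i _ (congrArg (fun g => g.hom x) h0)
  exact (cancel_mono (kernel.ι ((tenC K).map ((twistMap f X).app (op n))))).1
    ((kernel.lift_ι _ _ _).trans (e.trans zero_comp.symm))

theorem isProIso_twist {E : Type*} [Category E] {F G : ModuleCat.{u} A ⥤ E} (η : F ⟶ G) (f : A)
    (X : ℕᵒᵖ ⥤ ModuleCat.{u} A) (h : DerCA.IsProIso (Functor.whiskerLeft X η)) :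
    DerCA.IsProIso (Functor.whiskerLeft (twist f X) η) := by
  intro n
  obtain ⟨m, hnm, b, h₁, h₂⟩ := h n
  let s : X.obj (op n) ⟶ X.obj (op n) := f ^ (m - n) • 𝟙 _
  have hs : ARSys.tr (twist f X) hnm = ARSys.tr X hnm ≫ s := by
    change f ^ (m - n) • ARSys.tr X hnm = _
    simp [s, Linear.comp_smul]
  refine ⟨m, hnm, b ≫ F.map s, ?_, ?_⟩
  · change η.app (X.obj (op m)) ≫ b ≫ F.map s = F.map (ARSys.tr (twist f X) hnm)
    refine ((Category.assoc _ _ _).symm.trans (congrArg (· ≫ F.map s) h₁)).trans ?_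
    exact (F.map_comp _ _).symm.trans (congrArg F.map hs.symm)
  · change (b ≫ F.map s) ≫ η.app (X.obj (op n)) = G.map (ARSys.tr (twist f X) hnm)
    refine (Category.assoc _ _ _).trans ((congrArg (b ≫ ·) (η.naturality s)).trans ?_)
    refine ((Category.assoc _ _ _).symm.trans (congrArg (· ≫ G.map s) h₂)).trans ?_
    exact (G.map_comp _ _).symm.trans (congrArg G.map hs.symm)

theorem isProIso_sys [IsNoetherianRing A] {P K : DRing.Cx A} (σ : P ⟶ K)
    (hP : DRing.TermwiseFlat P) {a b : ℤ} (hK : DRing.VanishesOutside K a b)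
    (hKf : ∀ i, Module.Finite A (K.X i))
    (hσ : IsIso ((Functor.whiskerRight (tenCMap σ) DerivedCategory.Q).app (ModuleCat.of A A))) :
    ∀ l : List A,
      DerCA.IsProIso (Functor.whiskerLeft (sys l) (Functor.whiskerRight (tenCMap σ) DerivedCategory.Q))
  | [] => by
      have : ∀ a, IsIso ((Functor.whiskerLeft (sys ([] : List A))
          (Functor.whiskerRight (tenCMap σ) DerivedCategory.Q)).app a) := fun _ => hσ
      have := NatIso.isIso_of_isIso_app (Functor.whiskerLeft (sys ([] : List A))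
          (Functor.whiskerRight (tenCMap σ) DerivedCategory.Q))
      exact isProIso_of_isIso _
  | f :: l => by
      have ih := isProIso_sys σ hP hK hKf hσ l
      have hex : ∀ (L : DRing.Cx A) (a : ℕᵒᵖ),
          (((seq f (sys l)).obj a).map (tenC L)).Exact ∧
            Epi (((seq f (sys l)).obj a).map (tenC L)).g := fun L a => by
        have : Epi ((seq f (sys l)).obj a).g := inferInstanceAs (Epi (cokernel.π ((twistMap f (sys l)).app a)))
        exact tenC_exact L _ (ShortComplex.exact_cokernel ((twistMap f (sys l)).app a))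
      let ψ : (seq f (sys l) ⋙ (tenC P).mapShortComplex) ⟶
          (seq f (sys l) ⋙ (tenC K).mapShortComplex) :=
        { app := fun a => ((seq f (sys l)).obj a).mapNatTrans (tenCMap σ)
          naturality := fun a b φ => by
            apply ShortComplex.hom_ext <;> exact (tenCMap σ).naturality _ }
      exact isProIso_of_exact (fun a => (hex P a).1) (fun a => (hex K a).1)
        (fun a => (hex P a).2) (fun a => (hex K a).2) ψ
        (isProZero_seq₁ P f _ (kerBound_flat hP f _ (finite_sys l)))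
        (isProZero_seq₁ K f _ (kerBound_finite hK hKf f _ (finite_sys l)))
        (isProIso_twist _ f _ ih) ih

/-- The projection `A ⟶ A/I^{n+1}`. -/
noncomputable def adicProj (I : Ideal A) :
    (Functor.const ℕᵒᵖ).obj (ModuleCat.of A A) ⟶ CohIII.adicSystem I (ModuleCat.of A A) :=
  NatTrans.ofOpSequence (fun n => ModuleCat.ofHom (Submodule.mkQ _)) (fun n => by
    simp [CohIII.adicSystem, Functor.ofOpSequence_map_homOfLE_succ]
    rfl)

theorem exists_proIso_adic [IsNoetherianRing A] (I : Ideal A) :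
    ∃ (l : List A) (c : sys l ⟶ CohIII.adicSystem I (ModuleCat.of A A)), DerCA.IsProIso c := by
  obtain ⟨s, hs⟩ := (IsNoetherian.noetherian I : I.FG)
  refine ⟨s.toList, ?_⟩
  let J : ℕ → Ideal A := fun n => Ideal.span {x | ∃ g ∈ s.toList, g ^ (n + 1) = x}
  have hJ : ∀ n, LinearMap.ker ((proj s.toList).app (op n)).hom = J n := fun n => (proj_spec _ n).2
  have hsurj : ∀ n, Function.Surjective ((proj s.toList).app (op n)).hom :=
    fun n => (proj_spec _ n).1
  have hle : ∀ n, J n ≤ I ^ (n + 1) • (⊤ : Submodule A A) := fun n => by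
    refine Ideal.span_le.2 ?_
    rintro _ ⟨g, hg, rfl⟩
    rw [Finset.mem_toList] at hg
    simpa using Ideal.pow_mem_pow (hs ▸ Ideal.subset_span hg : g ∈ I) (n + 1)
  let cApp : ∀ n, (sys s.toList).obj (op n) ⟶ (CohIII.adicSystem I (ModuleCat.of A A)).obj (op n) :=
    fun n => ModuleCat.ofHom ((Submodule.liftQ _ (Submodule.mkQ _)
      (by rw [Submodule.ker_mkQ, hJ]; exact hle n)).comp
        ((LinearMap.quotKerEquivOfSurjective _ (hsurj n)).symm.toLinearMap))
  have hc : ∀ n, (proj s.toList).app (op n) ≫ cApp n = (adicProj I).app (op n) := fun n => by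
    apply ModuleCat.hom_ext
    refine LinearMap.ext fun x => ?_
    change (Submodule.liftQ _ (Submodule.mkQ (I ^ (n + 1) • (⊤ : Submodule A A)))
      (by rw [Submodule.ker_mkQ, hJ]; exact hle n))
      ((LinearMap.quotKerEquivOfSurjective _ (hsurj n)).symm (((proj s.toList).app (op n)).hom x)) = _
    rw [show (LinearMap.quotKerEquivOfSurjective _ (hsurj n)).symm
      (((proj s.toList).app (op n)).hom x) = Submodule.Quotient.mk x from
      (LinearEquiv.symm_apply_eq _).2 rfl]
    rfl
  have hepi : ∀ n, Epi ((proj s.toList).app (op n)) := fun n =>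
    (ModuleCat.epi_iff_surjective _).2 (hsurj n)
  have hepi' : ∀ n, Epi ((adicProj I).app (op n)) := fun n =>
    (ModuleCat.epi_iff_surjective _).2 (Submodule.mkQ_surjective _)
  let c : sys s.toList ⟶ CohIII.adicSystem I (ModuleCat.of A A) :=
    { app := fun a => cApp a.unop
      naturality := fun a b φ => by
        obtain ⟨a⟩ := a
        obtain ⟨b⟩ := b
        have := hepi a
        have e₁ := (proj s.toList).naturality φ
        have e₂ := (adicProj I).naturality φ
        simp only [Functor.const_obj_map] at e₁ e₂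
        rw [← cancel_epi ((proj s.toList).app (op a)), ← reassoc_of% e₁, hc b, e₂, ← hc a,
          Category.assoc] }
  refine ⟨c, fun n => ?_⟩
  obtain ⟨k, hk⟩ := Ideal.exists_radical_pow_le_of_fg (J n) (IsNoetherian.noetherian _)
  have hrad : I ≤ (J n).radical := by
    rw [← hs]
    refine Ideal.span_le.2 fun g hg => ⟨n + 1, Ideal.subset_span ⟨g, Finset.mem_toList.2 hg, rfl⟩⟩
  have hm : I ^ (max n k + 1) • (⊤ : Submodule A A) ≤ J n := by
    refine le_trans ?_ ((Ideal.pow_right_mono hrad k).trans hk)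
    simpa using Ideal.pow_le_pow_right (I := I) (show k ≤ max n k + 1 by omega)
  let b : (CohIII.adicSystem I (ModuleCat.of A A)).obj (op (max n k)) ⟶ (sys s.toList).obj (op n) :=
    ModuleCat.ofHom (Submodule.liftQ _ ((proj s.toList).app (op n)).hom (hm.trans (hJ n).ge))
  have hb : (adicProj I).app (op (max n k)) ≫ b = (proj s.toList).app (op n) := by
    apply ModuleCat.hom_ext
    exact LinearMap.ext fun x => rfl
  refine ⟨max n k, le_max_left _ _, b, ?_, ?_⟩
  · have := hepi (max n k)
    rw [← cancel_epi ((proj s.toList).app (op (max n k)))]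
    change (proj s.toList).app (op (max n k)) ≫ cApp (max n k) ≫ b = _
    rw [reassoc_of% (hc (max n k)), hb]
    simpa using ((proj s.toList).naturality (homOfLE (le_max_left n k)).op)
  · have := hepi' (max n k)
    rw [← cancel_epi ((adicProj I).app (op (max n k))), ← Category.assoc, hb]
    change (proj s.toList).app (op n) ≫ cApp n = _
    rw [hc]
    simpa using ((adicProj I).naturality (homOfLE (le_max_left n k)).op)

end Groth.Agent.DTenPro
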