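import Groth.Prelude.Def_DerCA
import Mathlib.Algebra.Homology.DerivedCategory.ShortExact
import Mathlib.CategoryTheory.Triangulated.Basic

/-!
# Pro-isomorphisms and the five lemma for systems of distinguished triangles
-/

set_option autoImplicit false
universe w v u
open CategoryTheory CategoryTheory.Limits CategoryTheory.Pretriangulated Opposite

namespace Groth.Agent.DTenPro

section cat

variable {C : Type*} [Category C] {E : Type*} [Category E]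

lemma tr_trans (X : ARSys.PS C) {a b c : ℕ} (h₁ : a ≤ b) (h₂ : b ≤ c) :
    ARSys.tr X h₂ ≫ ARSys.tr X h₁ = ARSys.tr X (h₁.trans h₂) :=
  (X.map_comp _ _).symm.trans rfl

lemma tr_trans_assoc (X : ARSys.PS C) {a b c : ℕ} (h₁ : a ≤ b) (h₂ : b ≤ c) {W : C}
    (z : X.obj (op a) ⟶ W) :
    ARSys.tr X h₂ ≫ ARSys.tr X h₁ ≫ z = ARSys.tr X (h₁.trans h₂) ≫ z := by
  rw [← Category.assoc, tr_trans]

lemma tr_refl (X : ARSys.PS C) (a : ℕ) : ARSys.tr X (le_refl a) = 𝟙 _ := X.map_id _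

lemma tr_nat {X Y : ARSys.PS C} (f : X ⟶ Y) {a b : ℕ} (h : a ≤ b) :
    ARSys.tr X h ≫ f.app (op a) = f.app (op b) ≫ ARSys.tr Y h :=
  f.naturality (homOfLE h).op

lemma tr_nat_assoc {X Y : ARSys.PS C} (f : X ⟶ Y) {a b : ℕ} (h : a ≤ b) {W : C}
    (z : Y.obj (op a) ⟶ W) :
    ARSys.tr X h ≫ f.app (op a) ≫ z = f.app (op b) ≫ ARSys.tr Y h ≫ z := by
  rw [← Category.assoc, tr_nat, Category.assoc]

lemma isProIso_of_isIso {X Y : ARSys.PS C} (a : X ⟶ Y) [IsIso a] : DerCA.IsProIso a :=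
  fun n => ⟨n, le_rfl, inv (a.app (op n)), by simp [tr_refl], by simp [tr_refl]⟩

lemma isProIso_comp {X Y Z : ARSys.PS C} {a : X ⟶ Y} {b : Y ⟶ Z} (ha : DerCA.IsProIso a)
    (hb : DerCA.IsProIso b) : DerCA.IsProIso (a ≫ b) := by
  intro n
  obtain ⟨m₁, h₁, e₁, he₁, he₁'⟩ := ha n
  obtain ⟨m₂, h₂, e₂, he₂, he₂'⟩ := hb m₁
  refine ⟨m₂, h₁.trans h₂, e₂ ≫ e₁, ?_, ?_⟩
  · rw [NatTrans.comp_app, Category.assoc, reassoc_of% he₂, ← tr_nat_assoc a h₂, he₁, tr_trans]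
  · rw [NatTrans.comp_app, Category.assoc, reassoc_of% he₁', tr_nat b h₁, reassoc_of% he₂',
      tr_trans]

lemma isProIso_of_comp_left {X Y Z : ARSys.PS C} {a : X ⟶ Y} {b : Y ⟶ Z} (ha : DerCA.IsProIso a)
    (hab : DerCA.IsProIso (a ≫ b)) : DerCA.IsProIso b := by
  intro n
  obtain ⟨m₁, h₁, c, hc, hc'⟩ := hab n
  obtain ⟨m, h, e, he, he'⟩ := ha m₁
  refine ⟨m, h₁.trans h, ARSys.tr Z h ≫ c ≫ a.app (op n), ?_, ?_⟩
  · rw [← tr_nat_assoc b h]
    conv_lhs => rw [← he']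
    rw [NatTrans.comp_app, Category.assoc] at hc
    rw [Category.assoc, reassoc_of% hc, tr_nat a h₁, reassoc_of% he', tr_trans]
  · rw [NatTrans.comp_app] at hc'
    rw [Category.assoc, Category.assoc, hc', tr_trans]

lemma isProIso_of_comp_right {X Y Z : ARSys.PS C} {a : X ⟶ Y} {b : Y ⟶ Z} (hb : DerCA.IsProIso b)
    (hab : DerCA.IsProIso (a ≫ b)) : DerCA.IsProIso a := by
  intro n
  obtain ⟨n', hn', e, he, -⟩ := hb n
  obtain ⟨m, hm, c, hc, hc'⟩ := hab n'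
  rw [NatTrans.comp_app] at hc hc'
  rw [Category.assoc] at hc
  refine ⟨m, hn'.trans hm, b.app (op m) ≫ c ≫ ARSys.tr X hn', ?_, ?_⟩
  · rw [reassoc_of% hc, tr_trans]
  · rw [Category.assoc, Category.assoc, tr_nat a hn', ← he, reassoc_of% hc', ← tr_nat_assoc b hm,
      he, tr_trans]

lemma isProIso_map {X Y : ARSys.PS C} {a : X ⟶ Y} (ha : DerCA.IsProIso a) (G : C ⥤ E) :
    DerCA.IsProIso (Functor.whiskerRight a G) := by
  intro n
  obtain ⟨m, h, b, h₁, h₂⟩ := ha n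
  refine ⟨m, h, G.map b, ?_, ?_⟩
  · change G.map (a.app (op m)) ≫ G.map b = G.map (ARSys.tr X h)
    rw [← G.map_comp, h₁]
  · change G.map b ≫ G.map (a.app (op n)) = G.map (ARSys.tr Y h)
    rw [← G.map_comp, h₂]

end cat

section preadditive

variable {C : Type*} [Category C] [Preadditive C]

/-- A pro-isomorphism is injective and surjective on elements up to a change of index. -/
lemma exists_of_isProIso {X Y : ARSys.PS C} {a : X ⟶ Y} (ha : DerCA.IsProIso a) (n : ℕ) :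
    ∃ (m : ℕ) (h : n ≤ m),
      (∀ ⦃W : C⦄ (x : W ⟶ X.obj (op m)), x ≫ a.app (op m) = 0 → x ≫ ARSys.tr X h = 0) ∧
      (∀ ⦃W : C⦄ (y : W ⟶ Y.obj (op m)), ∃ x : W ⟶ X.obj (op n),
        x ≫ a.app (op n) = y ≫ ARSys.tr Y h) := by
  obtain ⟨m, h, b, h₁, h₂⟩ := ha n
  refine ⟨m, h, fun W x hx => ?_, fun W y => ⟨y ≫ b, by rw [Category.assoc, h₂]⟩⟩
  rw [← h₁, reassoc_of% hx, zero_comp]

lemma isProIso_of_exists {X Y : ARSys.PS C} {a : X ⟶ Y}
    (h₁ : ∀ n : ℕ, ∃ (m : ℕ) (h : n ≤ m),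
      ∀ ⦃W : C⦄ (x : W ⟶ X.obj (op m)), x ≫ a.app (op m) = 0 → x ≫ ARSys.tr X h = 0)
    (h₂ : ∀ n : ℕ, ∃ (m : ℕ) (h : n ≤ m),
      ∀ ⦃W : C⦄ (y : W ⟶ Y.obj (op m)), ∃ x : W ⟶ X.obj (op n),
        x ≫ a.app (op n) = y ≫ ARSys.tr Y h) :
    DerCA.IsProIso a := by
  intro n
  obtain ⟨m₁, hm₁, hi⟩ := h₁ n
  obtain ⟨m, hm, hs⟩ := h₂ m₁
  obtain ⟨b₀, hb₀⟩ := hs (𝟙 _)
  rw [Category.id_comp] at hb₀
  refine ⟨m, hm₁.trans hm, b₀ ≫ ARSys.tr X hm₁, ?_, ?_⟩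
  · have h : (a.app (op m) ≫ b₀ - ARSys.tr X hm) ≫ a.app (op m₁) = 0 := by
      rw [Preadditive.sub_comp, Category.assoc, hb₀, tr_nat, sub_self]
    have h' := hi _ h
    rwa [Preadditive.sub_comp, sub_eq_zero, Category.assoc, tr_trans] at h'
  · rw [Category.assoc, tr_nat a hm₁, reassoc_of% hb₀, tr_trans]

end preadditive

section triangulated

variable {D : Type u} [Category.{v} D] [Preadditive D] [HasZeroObject D] [HasShift D ℤ]
  [∀ n : ℤ, (shiftFunctor D n).Additive] [Pretriangulated D]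

variable {X₁ X₂ X₃ Y₁ Y₂ Y₃ : ARSys.PS D}

/-- The five lemma for pro-isomorphisms of systems of distinguished triangles. -/
theorem isProIso_five (f₁ : X₁ ⟶ X₂) (f₂ : X₂ ⟶ X₃) (f₃ : X₃ ⟶ X₁ ⋙ shiftFunctor D (1 : ℤ))
    (g₁ : Y₁ ⟶ Y₂) (g₂ : Y₂ ⟶ Y₃) (g₃ : Y₃ ⟶ Y₁ ⋙ shiftFunctor D (1 : ℤ))
    (a : X₁ ⟶ Y₁) (b : X₂ ⟶ Y₂) (c : X₃ ⟶ Y₃)
    (c₁ : f₁ ≫ b = a ≫ g₁) (c₂ : f₂ ≫ c = b ≫ g₂)
    (c₃ : f₃ ≫ Functor.whiskerRight a (shiftFunctor D (1 : ℤ)) = c ≫ g₃)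
    (hT : ∀ n : ℕ, Triangle.mk (f₁.app (op n)) (f₂.app (op n)) (f₃.app (op n)) ∈ distTriang D)
    (hT' : ∀ n : ℕ, Triangle.mk (g₁.app (op n)) (g₂.app (op n)) (g₃.app (op n)) ∈ distTriang D)
    (ha : DerCA.IsProIso a) (hb : DerCA.IsProIso b) : DerCA.IsProIso c := by
  have ha' := isProIso_map ha (shiftFunctor D (1 : ℤ))
  have hb' := isProIso_map hb (shiftFunctor D (1 : ℤ))
  let s₁ := Functor.whiskerRight f₁ (shiftFunctor D (1 : ℤ))
  let a₁ := Functor.whiskerRight a (shiftFunctor D (1 : ℤ))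
  have k₁ : ∀ k : ℕ, f₁.app (op k) ≫ b.app (op k) = a.app (op k) ≫ g₁.app (op k) := fun k =>
    congrArg (fun t => NatTrans.app t (op k)) c₁
  have k₂ : ∀ k : ℕ, f₂.app (op k) ≫ c.app (op k) = b.app (op k) ≫ g₂.app (op k) := fun k =>
    congrArg (fun t => NatTrans.app t (op k)) c₂
  have k₃ : ∀ k : ℕ, f₃.app (op k) ≫ a₁.app (op k) = c.app (op k) ≫ g₃.app (op k) := fun k =>
    congrArg (fun t => NatTrans.app t (op k)) c₃
  have k₁' : ∀ k : ℕ, s₁.app (op k) ≫ (Functor.whiskerRight b (shiftFunctor D (1 : ℤ))).app (op k) =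
      a₁.app (op k) ≫ (Functor.whiskerRight g₁ (shiftFunctor D (1 : ℤ))).app (op k) := fun k => by
    simp only [s₁, a₁, Functor.whiskerRight_app, ← Functor.map_comp, k₁]
  refine isProIso_of_exists (fun n => ?_) (fun n => ?_)
  · obtain ⟨m₂, h₂, hi₂, -⟩ := exists_of_isProIso hb n
    obtain ⟨m₁, h₁, -, hs₁⟩ := exists_of_isProIso ha m₂
    obtain ⟨m, h, hi, -⟩ := exists_of_isProIso ha' m₁
    refine ⟨m, (h₂.trans h₁).trans h, fun W x hx => ?_⟩
    have e₁ : (x ≫ f₃.app (op m)) ≫ a₁.app (op m) = 0 := by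
      rw [Category.assoc, k₃, reassoc_of% hx, zero_comp]
    have e₂ : (x ≫ ARSys.tr X₃ h) ≫ f₃.app (op m₁) = 0 := by
      rw [Category.assoc, tr_nat f₃ h, ← Category.assoc]
      exact hi _ e₁
    obtain ⟨u, hu⟩ : ∃ u : W ⟶ X₂.obj (op m₁), x ≫ ARSys.tr X₃ h = u ≫ f₂.app (op m₁) :=
      Triangle.coyoneda_exact₃ _ (hT m₁) _ e₂
    have e₃ : (u ≫ b.app (op m₁)) ≫ g₂.app (op m₁) = 0 := by
      rw [Category.assoc, ← k₂, ← reassoc_of% hu, tr_nat c h, reassoc_of% hx, zero_comp]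
    obtain ⟨v, hv⟩ : ∃ v : W ⟶ Y₁.obj (op m₁), u ≫ b.app (op m₁) = v ≫ g₁.app (op m₁) :=
      Triangle.coyoneda_exact₂ _ (hT' m₁) _ e₃
    obtain ⟨w, hw⟩ := hs₁ v
    have e₄ : (u ≫ ARSys.tr X₂ h₁ - w ≫ f₁.app (op m₂)) ≫ b.app (op m₂) = 0 := by
      rw [Preadditive.sub_comp, sub_eq_zero, Category.assoc, tr_nat b h₁, Category.assoc, k₁,
        reassoc_of% hv, reassoc_of% hw, tr_nat g₁ h₁]
    have e₅ := hi₂ _ e₄
    rw [Preadditive.sub_comp, sub_eq_zero, Category.assoc, Category.assoc, tr_trans,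
      ← tr_nat f₁ h₂] at e₅
    have z : f₁.app (op n) ≫ f₂.app (op n) = 0 := comp_distTriang_mor_zero₁₂ _ (hT n)
    rw [← tr_trans X₃ (h₂.trans h₁) h, reassoc_of% hu, ← tr_nat f₂ (h₂.trans h₁),
      reassoc_of% e₅, z, comp_zero, comp_zero]
  · obtain ⟨m₂, h₂, -, hs₂⟩ := exists_of_isProIso hb n
    obtain ⟨m₁, h₁, hi₁, -⟩ := exists_of_isProIso hb' m₂
    obtain ⟨m, h, -, hs⟩ := exists_of_isProIso ha' m₁
    refine ⟨m, (h₂.trans h₁).trans h, fun W y => ?_⟩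
    obtain ⟨w, hw⟩ := hs (y ≫ g₃.app (op m))
    have hw' : w ≫ a₁.app (op m₁) = (y ≫ ARSys.tr Y₃ h) ≫ g₃.app (op m₁) := by
      rw [Category.assoc, tr_nat g₃ h, ← Category.assoc]; exact hw
    have z : g₃.app (op m₁) ≫ (Functor.whiskerRight g₁ (shiftFunctor D (1 : ℤ))).app (op m₁) = 0 :=
      comp_distTriang_mor_zero₃₁ _ (hT' m₁)
    have e₁ : (w ≫ s₁.app (op m₁)) ≫
        (Functor.whiskerRight b (shiftFunctor D (1 : ℤ))).app (op m₁) = 0 := by
      rw [Category.assoc, k₁', reassoc_of% hw', z, comp_zero, comp_zero]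
    have e₂ := hi₁ _ e₁
    rw [Category.assoc, ← tr_nat s₁ h₁, ← Category.assoc] at e₂
    obtain ⟨z', hz⟩ : ∃ z' : W ⟶ X₃.obj (op m₂),
        w ≫ ARSys.tr (X₁ ⋙ shiftFunctor D (1 : ℤ)) h₁ = z' ≫ f₃.app (op m₂) :=
      Triangle.coyoneda_exact₁ _ (hT m₂) _ e₂
    have e₃ : (y ≫ ARSys.tr Y₃ (h₁.trans h) - z' ≫ c.app (op m₂)) ≫ g₃.app (op m₂) = 0 := by
      rw [Preadditive.sub_comp, sub_eq_zero, Category.assoc z', ← k₃, ← Category.assoc z', ← hz,
        Category.assoc w, tr_nat a₁ h₁, reassoc_of% hw', Category.assoc, ← tr_nat g₃ h₁,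
        ← tr_trans Y₃ h₁ h, Category.assoc]
    obtain ⟨u, hu⟩ : ∃ u : W ⟶ Y₂.obj (op m₂),
        y ≫ ARSys.tr Y₃ (h₁.trans h) - z' ≫ c.app (op m₂) = u ≫ g₂.app (op m₂) :=
      Triangle.coyoneda_exact₃ _ (hT' m₂) _ e₃
    obtain ⟨t, ht⟩ := hs₂ u
    refine ⟨z' ≫ ARSys.tr X₃ h₂ + t ≫ f₂.app (op n), ?_⟩
    rw [sub_eq_iff_eq_add'] at hu
    rw [Preadditive.add_comp, Category.assoc, Category.assoc, tr_nat c h₂, k₂, reassoc_of% ht,
      ← tr_trans Y₃ h₂ (h₁.trans h), reassoc_of% hu, Preadditive.add_comp, Category.assoc,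
      Category.assoc, tr_nat g₂ h₂]

/-- If the first terms of a system of distinguished triangles are pro-zero, the second maps form a
pro-isomorphism. -/
theorem isProIso_of_first_proZero (f₁ : X₁ ⟶ X₂) (f₂ : X₂ ⟶ X₃)
    (f₃ : X₃ ⟶ X₁ ⋙ shiftFunctor D (1 : ℤ))
    (hT : ∀ n : ℕ, Triangle.mk (f₁.app (op n)) (f₂.app (op n)) (f₃.app (op n)) ∈ distTriang D)
    (h0 : DerCA.IsProZero X₁) : DerCA.IsProIso f₂ := by
  refine isProIso_of_exists (fun n => ?_) (fun n => ?_)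
  · obtain ⟨m, h, e⟩ := h0 n
    refine ⟨m, h, fun W x hx => ?_⟩
    obtain ⟨u, hu⟩ : ∃ u : W ⟶ X₁.obj (op m), x = u ≫ f₁.app (op m) :=
      Triangle.coyoneda_exact₂ _ (hT m) x hx
    rw [hu, Category.assoc, ← tr_nat f₁ h, e, zero_comp, comp_zero]
  · obtain ⟨m, h, e⟩ := h0 n
    refine ⟨m, h, fun W y => ?_⟩
    have hy : (y ≫ ARSys.tr X₃ h) ≫ f₃.app (op n) = 0 := by
      rw [Category.assoc, tr_nat f₃ h]
      change y ≫ _ ≫ (ARSys.tr X₁ h)⟦(1 : ℤ)⟧' = 0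
      rw [e, Functor.map_zero, comp_zero, comp_zero]
    obtain ⟨x, hx⟩ : ∃ x : W ⟶ X₂.obj (op n), y ≫ ARSys.tr X₃ h = x ≫ f₂.app (op n) :=
      Triangle.coyoneda_exact₃ _ (hT n) _ hy
    exact ⟨x, hx.symm⟩

theorem isProIso_third (T T' : ℕᵒᵖ ⥤ Triangle D) (φ : T ⟶ T')
    (hT : ∀ n : ℕ, T.obj (op n) ∈ distTriang D) (hT' : ∀ n : ℕ, T'.obj (op n) ∈ distTriang D)
    (ha : DerCA.IsProIso (Functor.whiskerRight φ Triangle.π₁))
    (hb : DerCA.IsProIso (Functor.whiskerRight φ Triangle.π₂)) :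
    DerCA.IsProIso (Functor.whiskerRight φ Triangle.π₃) :=
  isProIso_five (Functor.whiskerLeft T Triangle.π₁Toπ₂) (Functor.whiskerLeft T Triangle.π₂Toπ₃)
    (Functor.whiskerLeft T Triangle.π₃Toπ₁) (Functor.whiskerLeft T' Triangle.π₁Toπ₂)
    (Functor.whiskerLeft T' Triangle.π₂Toπ₃) (Functor.whiskerLeft T' Triangle.π₃Toπ₁) _ _ _
    (by ext n; exact (φ.app n).comm₁) (by ext n; exact (φ.app n).comm₂)
    (by ext n; exact (φ.app n).comm₃) hT hT' ha hb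

theorem isProIso_mor₂ (T : ℕᵒᵖ ⥤ Triangle D) (hT : ∀ n : ℕ, T.obj (op n) ∈ distTriang D)
    (h0 : DerCA.IsProZero (T ⋙ Triangle.π₁)) :
    DerCA.IsProIso (Functor.whiskerLeft T (Triangle.π₂Toπ₃ (C := D))) :=
  isProIso_of_first_proZero (Functor.whiskerLeft T Triangle.π₁Toπ₂)
    (Functor.whiskerLeft T Triangle.π₂Toπ₃) (Functor.whiskerLeft T Triangle.π₃Toπ₁) hT h0

end triangulated

section ses

variable {A : Type u} [Category.{v} A] [Abelian A] [HasDerivedCategory.{w} A]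

/-- The system of triangles attached to a system of short exact sequences of complexes. -/
noncomputable def triangles (S : ℕᵒᵖ ⥤ ShortComplex (CochainComplex A ℤ))
    (hS : ∀ n, (S.obj n).ShortExact) : ℕᵒᵖ ⥤ Triangle (DerivedCategory A) where
  obj n := DerivedCategory.triangleOfSES (hS n)
  map {n m} φ := DerivedCategory.triangleOfSES.map (hS n) (hS m) (S.map φ)
  map_id n := by
    ext <;> simp [DerivedCategory.triangleOfSES] <;> rfl
  map_comp φ ψ := by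
    ext <;> simp [DerivedCategory.triangleOfSES] <;> rfl

/-- A morphism of systems of short exact sequences gives a morphism of systems of triangles. -/
noncomputable def trianglesMap {S S' : ℕᵒᵖ ⥤ ShortComplex (CochainComplex A ℤ)}
    (hS : ∀ n, (S.obj n).ShortExact) (hS' : ∀ n, (S'.obj n).ShortExact) (ψ : S ⟶ S') :
    triangles S hS ⟶ triangles S' hS' where
  app n := DerivedCategory.triangleOfSES.map (hS n) (hS' n) (ψ.app n)
  naturality n m φ := by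
    have e := ψ.naturality φ
    ext
    · exact (Functor.map_comp _ _ _).symm.trans ((congrArg (fun t =>
        DerivedCategory.Q.map t.τ₁) e).trans (Functor.map_comp _ _ _))
    · exact (Functor.map_comp _ _ _).symm.trans ((congrArg (fun t =>
        DerivedCategory.Q.map t.τ₂) e).trans (Functor.map_comp _ _ _))
    · exact (Functor.map_comp _ _ _).symm.trans ((congrArg (fun t =>
        DerivedCategory.Q.map t.τ₃) e).trans (Functor.map_comp _ _ _))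

theorem isProIso_τ₃ {S S' : ℕᵒᵖ ⥤ ShortComplex (CochainComplex A ℤ)}
    (hS : ∀ n, (S.obj n).ShortExact) (hS' : ∀ n, (S'.obj n).ShortExact) (ψ : S ⟶ S')
    (h₁ : DerCA.IsProIso (Functor.whiskerRight ψ (ShortComplex.π₁ ⋙ DerivedCategory.Q)))
    (h₂ : DerCA.IsProIso (Functor.whiskerRight ψ (ShortComplex.π₂ ⋙ DerivedCategory.Q))) :
    DerCA.IsProIso (Functor.whiskerRight ψ (ShortComplex.π₃ ⋙ DerivedCategory.Q)) :=
  isProIso_third _ _ (trianglesMap hS hS' ψ)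
    (fun n => DerivedCategory.triangleOfSES_distinguished (hS (op n)))
    (fun n => DerivedCategory.triangleOfSES_distinguished (hS' (op n))) h₁ h₂

theorem isProIso_g (S : ℕᵒᵖ ⥤ ShortComplex (CochainComplex A ℤ))
    (hS : ∀ n, (S.obj n).ShortExact) (h0 : DerCA.IsProZero (S ⋙ ShortComplex.π₁)) :
    DerCA.IsProIso (Functor.whiskerRight (Functor.whiskerLeft S
      (ShortComplex.π₂Toπ₃ (C := CochainComplex A ℤ))) DerivedCategory.Q) :=
  isProIso_mor₂ (triangles S hS) (fun n => DerivedCategory.triangleOfSES_distinguished (hS (op n)))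
    (fun n => by
      obtain ⟨m, h, e⟩ := h0 n
      refine ⟨m, h, ?_⟩
      change DerivedCategory.Q.map (ARSys.tr (S ⋙ ShortComplex.π₁) h) = 0
      rw [e, Functor.map_zero])

/-- The sequence `ker f ⟶ X₁ ⟶ ker g`. -/
noncomputable def seq₁ : ShortComplex A ⥤ ShortComplex A where
  obj S := ShortComplex.mk (kernel.ι S.f) (kernel.lift S.g S.f S.zero)
    ((cancel_mono (kernel.ι S.g)).1 (by simp))
  map {S S'} φ := ShortComplex.Hom.mk (kernel.map _ _ φ.τ₁ φ.τ₂ φ.comm₁₂.symm) φ.τ₁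
    (kernel.map _ _ φ.τ₂ φ.τ₃ φ.comm₂₃.symm) (by simp)
    ((cancel_mono (kernel.ι S'.g)).1 (by simp [φ.comm₁₂]))
  map_id S := by ext <;> simp
  map_comp φ ψ := by ext <;> simp

/-- The sequence `ker g ⟶ X₂ ⟶ X₃`. -/
noncomputable def seq₂ : ShortComplex A ⥤ ShortComplex A where
  obj S := ShortComplex.mk (kernel.ι S.g) S.g (kernel.condition _)
  map {S S'} φ := ShortComplex.Hom.mk (kernel.map _ _ φ.τ₂ φ.τ₃ φ.comm₂₃.symm) φ.τ₂ φ.τ₃
    (by simp) φ.comm₂₃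
  map_id S := by ext <;> simp
  map_comp φ ψ := by ext <;> simp

omit [HasDerivedCategory.{w} A] in
lemma seq₂_shortExact (S : ShortComplex A) [Epi S.g] : (seq₂.obj S).ShortExact where
  exact := ShortComplex.exact_of_f_is_kernel _ (kernelIsKernel S.g)
  mono_f := inferInstanceAs (Mono (kernel.ι S.g))
  epi_g := inferInstanceAs (Epi S.g)

omit [HasDerivedCategory.{w} A] in
lemma seq₁_shortExact (S : ShortComplex A) (hS : S.Exact) : (seq₁.obj S).ShortExact where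
  exact := by
    have : Mono (seq₁.obj S).f := inferInstanceAs (Mono (kernel.ι S.f))
    refine ShortComplex.exact_of_f_is_kernel _ (KernelFork.IsLimit.ofι' _ _ fun {W} k hk => ?_)
    refine ⟨kernel.lift S.f k ?_, kernel.lift_ι _ _ _⟩
    exact (congrArg (k ≫ ·) (kernel.lift_ι S.g S.f S.zero).symm).trans
      ((Category.assoc _ _ _).symm.trans ((congrArg (· ≫ kernel.ι S.g) hk).trans zero_comp))
  mono_f := inferInstanceAs (Mono (kernel.ι S.f))
  epi_g := hS.epi_kernelLift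

/-- The third maps of a morphism of systems of exact sequences `X₁ ⟶ X₂ ⟶ X₃ ⟶ 0` with pro-zero
kernels are a pro-isomorphism if the first two are. -/
theorem isProIso_of_exact {S S' : ℕᵒᵖ ⥤ ShortComplex (CochainComplex A ℤ)}
    (hS : ∀ n, (S.obj n).Exact) (hS' : ∀ n, (S'.obj n).Exact)
    (hg : ∀ n, Epi (S.obj n).g) (hg' : ∀ n, Epi (S'.obj n).g) (ψ : S ⟶ S')
    (h0 : DerCA.IsProZero ((S ⋙ seq₁) ⋙ ShortComplex.π₁))
    (h0' : DerCA.IsProZero ((S' ⋙ seq₁) ⋙ ShortComplex.π₁))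
    (h₁ : DerCA.IsProIso (Functor.whiskerRight ψ (ShortComplex.π₁ ⋙ DerivedCategory.Q)))
    (h₂ : DerCA.IsProIso (Functor.whiskerRight ψ (ShortComplex.π₂ ⋙ DerivedCategory.Q))) :
    DerCA.IsProIso (Functor.whiskerRight ψ (ShortComplex.π₃ ⋙ DerivedCategory.Q)) := by
  let B := Functor.whiskerRight (Functor.whiskerRight ψ seq₂) (ShortComplex.π₁ ⋙ DerivedCategory.Q)
  have hB : DerCA.IsProIso B := by
    let a := Functor.whiskerRight (Functor.whiskerLeft (S ⋙ seq₁)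
      (ShortComplex.π₂Toπ₃ (C := CochainComplex A ℤ))) DerivedCategory.Q
    let a' := Functor.whiskerRight (Functor.whiskerLeft (S' ⋙ seq₁)
      (ShortComplex.π₂Toπ₃ (C := CochainComplex A ℤ))) DerivedCategory.Q
    have e : a ≫ B = Functor.whiskerRight ψ (ShortComplex.π₁ ⋙ DerivedCategory.Q) ≫ a' := by
      ext n
      exact (Functor.map_comp _ _ _).symm.trans ((congrArg DerivedCategory.Q.map
        (seq₁.map (ψ.app n)).comm₂₃.symm).trans (Functor.map_comp _ _ _))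
    refine isProIso_of_comp_left (a := a) (isProIso_g _ (fun n => seq₁_shortExact _ (hS n)) h0) ?_
    rw [e]
    exact isProIso_comp h₁ (isProIso_g _ (fun n => seq₁_shortExact _ (hS' n)) h0')
  exact isProIso_τ₃ (S := S ⋙ seq₂) (S' := S' ⋙ seq₂)
    (fun n => haveI := hg n; seq₂_shortExact _) (fun n => haveI := hg' n; seq₂_shortExact _)
    (Functor.whiskerRight ψ seq₂) hB h₂

end ses

end Groth.Agent.DTenPro
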